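import Mathlib.RingTheory.Flat.EquationalCriterion
import Mathlib.RingTheory.RingHom.Flat
import Mathlib.Algebra.Polynomial.Coeff
import Mathlib.RingTheory.Polynomial.Basic

set_option autoImplicit false
set_option linter.style.haveILetI false
universe u

open Polynomial

namespace Groth.Agent.H15Magnet.LineIso

variable {B C : Type u} [CommRing B] [CommRing C]

/-- An action of the monoid `(A¹, ·)` on a ring: a coaction into polynomials. -/
structure IsCoact (ρ : B →+* B[X]) : Prop where
  eval_one : ∀ b, (ρ b).eval 1 = b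
  coeff_coeff : ∀ b n, ρ ((ρ b).coeff n) = monomial n ((ρ b).coeff n)

/-- The degree zero projection. -/
noncomputable def p0 (ρ : B →+* B[X]) : B →+* B := (constantCoeff).comp ρ

@[simp] theorem p0_apply (ρ : B →+* B[X]) (b : B) : p0 ρ b = (ρ b).coeff 0 := rfl

theorem IsCoact.p0_p0 {ρ : B →+* B[X]} (h : IsCoact ρ) (b : B) : p0 ρ (p0 ρ b) = p0 ρ b := by
  simp [h.coeff_coeff b 0]

theorem IsCoact.p0_coeff {ρ : B →+* B[X]} (h : IsCoact ρ) (b : B) {n : ℕ} (hn : n ≠ 0) :
    p0 ρ ((ρ b).coeff n) = 0 := by
  simp [h.coeff_coeff b n, coeff_monomial, hn]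

theorem IsCoact.eq_sum {ρ : B →+* B[X]} (h : IsCoact ρ) (b : B) :
    b = ∑ n ∈ (ρ b).support, (ρ b).coeff n := by
  conv_lhs => rw [← h.eval_one b, eval_eq_sum, Polynomial.sum]
  simp

theorem IsCoact.sub_p0_mem {ρ : B →+* B[X]} (h : IsCoact ρ) (b : B) : b - p0 ρ b ∈ RingHom.ker (p0 ρ) := by
  rw [RingHom.mem_ker, map_sub, h.p0_p0, sub_self]

/-- Graded Nakayama and flatness near the fixed locus: an equivariant map of coactions which is an
isomorphism on the fixed loci, cartesian over them and flat near them is an isomorphism. -/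
theorem bijective_of_fixed {ρB : B →+* B[X]} {ρC : C →+* C[X]} (hB : IsCoact ρB) (hC : IsCoact ρC)
    (φ : C →+* B) (heq : ∀ c, ρB (φ c) = (ρC c).map φ)
    (hcart : RingHom.ker (p0 ρB) ≤ (RingHom.ker (p0 ρC)).map φ)
    (h0 : ∀ b, ∃ c, φ (p0 ρC c) = p0 ρB b)
    (hinj0 : ∀ c, φ (p0 ρC c) = 0 → p0 ρC c = 0)
    (hflat : ∀ p : Ideal C, p.IsPrime → RingHom.ker (p0 ρC) ≤ p →
      ∃ (q : Ideal B) (g : B), q.IsPrime ∧ g ∉ q ∧ q.comap φ = p ∧
        ((algebraMap B (Localization.Away g)).comp φ).Flat) :
    Function.Bijective φ := by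
  classical
  have hcoeff : ∀ c n, (ρB (φ c)).coeff n = φ ((ρC c).coeff n) := fun c n => by
    rw [heq, coeff_map]
  have hp0 : ∀ c, p0 ρB (φ c) = φ (p0 ρC c) := fun c => hcoeff c 0
  -- surjectivity, degree by degree
  have hdeg : ∀ n b, (ρB b).coeff n ∈ φ.range := by
    intro n
    induction n using Nat.strong_induction_on with
    | _ n ih =>
      intro b
      by_cases hn : n = 0
      · subst hn
        obtain ⟨c, hc⟩ := h0 b
        exact ⟨_, hc.trans (p0_apply _ _)⟩
      let z := (ρB b).coeff n
      have hzd : (ρB z).coeff n = z := by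
        show (ρB ((ρB b).coeff n)).coeff n = _
        rw [hB.coeff_coeff, coeff_monomial_same]
      have hz : z ∈ (RingHom.ker (p0 ρC)).map φ := hcart (hB.p0_coeff b hn)
      suffices H : ∀ w, w ∈ (RingHom.ker (p0 ρC)).map φ → (ρB w).coeff n ∈ φ.range by
        have := H z hz
        rwa [hzd] at this
      intro w hw
      rw [Ideal.map] at hw
      induction hw using Submodule.span_induction with
      | mem x hx =>
        obtain ⟨c, -, rfl⟩ := hx
        rw [hcoeff]
        exact ⟨_, rfl⟩
      | zero => simp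
      | add x y _ _ hx hy => rw [map_add, coeff_add]; exact add_mem hx hy
      | smul a x hx ihx =>
        clear ihx
        induction hx using Submodule.span_induction generalizing a with
        | mem x hx =>
          obtain ⟨c, hc, rfl⟩ := hx
          rw [smul_eq_mul, mul_comm, map_mul, coeff_mul]
          refine sum_mem fun ij hij => ?_
          rw [hcoeff]
          by_cases hi : ij.1 = 0
          · rw [hi, show (ρC c).coeff 0 = 0 from hc, map_zero, zero_mul]
            exact zero_mem _
          · refine mul_mem ⟨_, rfl⟩ (ih ij.2 ?_ a)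
            have := Finset.HasAntidiagonal.mem_antidiagonal.1 hij
            omega
        | zero => simp
        | add x y _ _ hx hy => rw [smul_add, map_add, coeff_add]; exact add_mem (hx a) (hy a)
        | smul a' x _ hx => rw [smul_smul]; exact hx _
  have hsurj : Function.Surjective φ := fun b => by
    have : b ∈ φ.range := by
      rw [hB.eq_sum b]
      exact sum_mem fun n _ => hdeg n b
    exact this
  refine ⟨(injective_iff_map_eq_zero φ).2 fun x hx => ?_, hsurj⟩
  -- homogeneous components of the kernel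
  suffices H : ∀ n, (ρC x).coeff n = 0 by
    rw [hC.eq_sum x]
    exact Finset.sum_eq_zero fun n _ => H n
  intro n
  have hxn : φ ((ρC x).coeff n) = 0 := by rw [← hcoeff, hx, map_zero, coeff_zero]
  generalize hy : (ρC x).coeff n = y at hxn ⊢
  have hρy : ρC y = monomial n y := by rw [← hy]; exact hC.coeff_coeff x n
  by_cases hn : n = 0
  · subst hn
    have hy0 : p0 ρC y = y := by simp [hρy]
    have := hinj0 y (by rw [hy0]; exact hxn)
    rwa [hy0] at this
  have hy0 : p0 ρC y = 0 := by simp [hρy, coeff_monomial, hn]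
  -- the annihilator is comaximal with the augmentation ideal
  let J : Ideal C := LinearMap.ker (LinearMap.mulLeft C y)
  have hJ : J ⊔ RingHom.ker (p0 ρC) = ⊤ := by
    by_contra hne
    obtain ⟨p, hp, hle⟩ := Ideal.exists_le_maximal _ hne
    obtain ⟨q, g, hq, hgq, hqp, hfl⟩ := hflat p hp.isPrime (le_sup_right.trans hle)
    letI : Algebra C (Localization.Away g) := ((algebraMap B (Localization.Away g)).comp φ).toAlgebra
    haveI : Module.Flat C (Localization.Away g) := hfl
    have hrel : ∑ i : Fin 1, (fun _ => y) i • (fun _ => (1 : Localization.Away g)) i = 0 := by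
      simp only [Fin.sum_univ_one, Algebra.smul_def, mul_one]
      change algebraMap B (Localization.Away g) (φ y) = 0
      rw [hxn, map_zero]
    obtain ⟨m, a, z, hz, ha⟩ :=
      Module.Flat.isTrivialRelation_of_sum_smul_eq_zero (R := C) (M := Localization.Away g) hrel
    let qg : Ideal (Localization.Away g) := q.map (algebraMap B _)
    have hqg : qg.IsPrime :=
      IsLocalization.isPrime_of_isPrime_disjoint (Submonoid.powers g) _ q hq
        (Set.disjoint_left.2 fun x hx hxq => hgq (by
          obtain ⟨k, rfl⟩ := hx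
          exact hq.mem_of_pow_mem k hxq))
    refine hqg.ne_top ((Ideal.eq_top_iff_one _).2 ?_)
    have h1 : (1 : Localization.Away g) = ∑ j, a 0 j • z j := hz 0
    rw [h1]
    refine sum_mem fun j _ => ?_
    have hj : a 0 j ∈ p := hle (Submodule.mem_sup_left (by
      change y * a 0 j = 0
      simpa using ha j))
    rw [Algebra.smul_def]
    refine Ideal.mul_mem_right _ _ (Ideal.mem_map_of_mem _ ?_)
    have hj' : a 0 j ∈ q.comap φ := hqp ▸ hj
    exact hj'
  obtain ⟨a, ha, c, hc, hac⟩ := Submodule.mem_sup.1 ((Ideal.eq_top_iff_one _).1 hJ)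
  have hya : y * a = 0 := ha
  have hyc : y = y * c := by
    conv_lhs => rw [← mul_one y, ← hac, mul_add, hya, zero_add]
  have h2 : (ρC y).coeff n = 0 := by
    rw [hyc, map_mul, coeff_mul]
    refine Finset.sum_eq_zero fun ij hij => ?_
    rw [hρy, coeff_monomial]
    by_cases h : n = ij.1
    · have := Finset.HasAntidiagonal.mem_antidiagonal.1 hij
      rw [if_pos h, show ij.2 = 0 by omega, show (ρC c).coeff 0 = 0 from hc, mul_zero]
    · rw [if_neg h, zero_mul]
  rwa [hρy, coeff_monomial_same] at h2

end Groth.Agent.H15Magnet.LineIso
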