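import Groth.Agent.H15Magnet.LineIso.Pts
import Mathlib.AlgebraicGeometry.Morphisms.Etale
import Mathlib.AlgebraicGeometry.Morphisms.Flat
import Mathlib.CategoryTheory.Limits.Types.Pullbacks
import Mathlib.CategoryTheory.Limits.FunctorCategory.Basic

set_option autoImplicit false
set_option linter.style.haveILetI false
set_option backward.isDefEq.respectTransparency false
set_option backward.isDefEq.respectTransparency.types false
universe u

open CategoryTheory CategoryTheory.Limits MonoidalCategory CartesianMonoidalCategory MonObj AlgebraicGeometry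
  Opposite Polynomial
open Magnet

noncomputable section

namespace Groth.Agent.H15Magnet.LineIso

variable {S : Scheme.{u}} {R : Type u} [CommRing R] {X Y : Over S}

theorem mem_basicOpen_iff {U : X.left.Opens} (hU : IsAffineOpen U) (φ : Γ(X.left, U) →+* R)
    (t : Spec (CommRingCat.of R)) (g : Γ(X.left, U)) :
    (Spec.map (CommRingCat.ofHom φ) ≫ hU.fromSpec) t ∈ X.left.basicOpen g ↔
      φ g ∉ (PrimeSpectrum.asIdeal t) := by
  rw [Scheme.Hom.comp_apply]
  exact SetLike.ext_iff.1 (hU.fromSpec_preimage_basicOpen g) _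

theorem mem_basicOpen_iff_field {K : Type u} [Field K] {U : X.left.Opens} (hU : IsAffineOpen U)
    (φ : Γ(X.left, U) →+* K) (t : Spec (CommRingCat.of K)) (g : Γ(X.left, U)) :
    (Spec.map (CommRingCat.ofHom φ) ≫ hU.fromSpec) t ∈ X.left.basicOpen g ↔ φ g ≠ 0 := by
  rw [mem_basicOpen_iff hU, ((PrimeSpectrum.asIdeal t).eq_bot_or_top).resolve_right
    (PrimeSpectrum.isPrime t).ne_top, Ideal.mem_bot]

variable (a : MonAct (AMonS S ℕ) X) (b : MonAct (AMonS S ℕ) Y) (f : X ⟶ Y)

/-- `f` is bijective on fixed points and nothing else maps to fixed points. -/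
structure FixIso : Prop where
  fixed : ∀ {T : Over S} (x : T ⟶ X), E b (x ≫ f) = x ≫ f → E a x = x
  exist : ∀ {T : Over S} (y : T ⟶ Y), E b y = y → ∃ x : T ⟶ X, x ≫ f = y
  unique : ∀ {T : Over S} (x x' : T ⟶ X), E b (x ≫ f) = x ≫ f → x ≫ f = x' ≫ f → x = x'

theorem fixIso_of_isPullback (hf : MonAct.IsEquivariant a b f) (h1 : IsIso (MonAct.fixedPsh.map f hf))
    (h2 : IsPullback (MonAct.fixedPsh.map f hf) (MonAct.fixedPshι a) (MonAct.fixedPshι b) (yoneda.map f)) :
    FixIso a b f := by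
  have hb : ∀ T : Over S, Function.Bijective ((MonAct.fixedPsh.map f hf).app (op T)) := fun T =>
    (isIso_iff_bijective _).1 inferInstance
  have hp : ∀ T : Over S, IsPullback ((MonAct.fixedPsh.map f hf).app (op T))
      ((MonAct.fixedPshι a).app (op T)) ((MonAct.fixedPshι b).app (op T)) ((yoneda.map f).app (op T)) :=
    fun T => h2.map ((evaluation _ _).obj (op T))
  have hfix : ∀ {T : Over S} (x : T ⟶ X), E b (x ≫ f) = x ≫ f → E a x = x := fun {T} x h => by
    obtain ⟨z, -, hz⟩ := Types.exists_of_isPullback (hp T) (fix b (x ≫ f) h) x rfl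
    have hz' : z.1 = x := hz
    rw [← hz']
    exact E_eq_of_fixed a z
  refine ⟨hfix, fun {T} y hy => ?_, fun {T} x x' h heq => ?_⟩
  · obtain ⟨z, hz⟩ := (hb T).2 (fix b y hy)
    exact ⟨z.1, congrArg Subtype.val hz⟩
  · exact congrArg Subtype.val ((hb T).1 (a₁ := fix a x (hfix x h))
      (a₂ := fix a x' (hfix x' (by rw [← heq]; exact h))) (Subtype.ext heq))

variable {a b f}

/-- The affine case. -/
theorem appLE_bijective (hf : MonAct.IsEquivariant a b f) (hF : FixIso a b f) (V : X.left.Opens)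
    [Etale (V.ι ≫ f.left)]
    (h3 : ∀ {T : Over S} (x : T ⟶ X), E a x = x → ∀ t, x.left t ∈ V)
    {U : Y.left.Opens} (hU : IsAffineOpen U) (hsU : Stable b U) (hU' : IsAffineOpen (f.left ⁻¹ᵁ U)) :
    Function.Bijective (f.left.appLE U (f.left ⁻¹ᵁ U) le_rfl).hom := by
  have hsU' : Stable a (f.left ⁻¹ᵁ U) := by
    intro t ht
    show f.left (a.act.left t) ∈ U
    rw [← Scheme.Hom.comp_apply, ← Over.comp_left,
      show a.act ≫ f = (AMonS S ℕ ◁ f) ≫ b.act from hf, Over.comp_left, Scheme.Hom.comp_apply]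
    refine hsU (show (snd (AMonS S ℕ) Y).left ((AMonS S ℕ ◁ f).left t) ∈ U from ?_)
    rw [← Scheme.Hom.comp_apply, ← Over.comp_left, whiskerLeft_snd, Over.comp_left, Scheme.Hom.comp_apply]
    exact ht
  let C := Γ(Y.left, U)
  let B := Γ(X.left, f.left ⁻¹ᵁ U)
  let φ : C →+* B := (f.left.appLE U (f.left ⁻¹ᵁ U) le_rfl).hom
  let ρB := rho a hU' hsU'
  let ρC := rho b hU hsU
  have hB : IsCoact ρB := isCoact a hU' hsU'
  have hC : IsCoact ρC := isCoact b hU hsU
  have hfs : ∀ {R : Type u} [CommRing R] (ψ : B →+* R),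
      (Spec.map (CommRingCat.ofHom ψ) ≫ hU'.fromSpec) ≫ f.left =
        Spec.map (CommRingCat.ofHom (ψ.comp φ)) ≫ hU.fromSpec := fun ψ => by
    rw [Category.assoc, ← IsAffineOpen.SpecMap_appLE_fromSpec f.left hU hU' le_rfl, ← Spec.map_comp_assoc]
    rfl
  have hp0 : ∀ c, p0 ρB (φ c) = φ (p0 ρC c) := fun c => by
    rw [p0_apply, show ρB (φ c) = (ρC c).map φ from rho_appLE a b hf hU hsU hU' hsU' le_rfl c, coeff_map]
    rfl
  -- points of `X` over the preimage
  let pX : ∀ {R : Type u} [CommRing R] (ψ : B →+* R),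
      Over.mk ((Spec.map (CommRingCat.ofHom ψ) ≫ hU'.fromSpec) ≫ X.hom) ⟶ X :=
    fun ψ => Over.homMk (Spec.map (CommRingCat.ofHom ψ) ≫ hU'.fromSpec) rfl
  have hfixX : ∀ {R : Type u} [CommRing R] (ψ : B →+* R),
      (ψ.comp φ).comp (p0 ρC) = ψ.comp φ → E a (pX ψ) = pX ψ := fun ψ h =>
    hF.fixed _ ((E_eq_iff b hU hsU (ψ.comp φ) (pX ψ ≫ f) (hfs ψ)).2 h)
  -- the lift of the fixed locus of `U`
  let J : Ideal C := RingHom.ker (p0 ρC)
  let q : C →+* C ⧸ J := Ideal.Quotient.mk J
  have hq : q.comp (p0 ρC) = q := RingHom.ext fun c =>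
    (Ideal.Quotient.eq.2 (hC.sub_p0_mem c)).symm
  let str : Spec (CommRingCat.of (C ⧸ J)) ⟶ S := (Spec.map (CommRingCat.ofHom q) ≫ hU.fromSpec) ≫ Y.hom
  let y0 : Over.mk str ⟶ Y := Over.homMk (Spec.map (CommRingCat.ofHom q) ≫ hU.fromSpec) rfl
  have hy0 : E b y0 = y0 := (E_eq_iff b hU hsU q y0 rfl).2 hq
  obtain ⟨σ, hσ⟩ := hF.exist y0 hy0
  have hσf : σ.left ≫ f.left = Spec.map (CommRingCat.ofHom q) ≫ hU.fromSpec :=
    congrArg CommaMorphism.left hσ
  obtain ⟨ψ, hψ⟩ := exists_ringHom hU' σ.left fun t => by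
    show f.left (σ.left t) ∈ U
    rw [← Scheme.Hom.comp_apply, hσf]
    exact fromSpec_mem hU q t
  have hψφ : ψ.comp φ = q := by
    refine ringHom_ext hU ?_
    rw [← hfs, ← hψ, hσf]
  have hσE : E a σ = σ := hF.fixed σ (by rw [hσ]; exact hy0)
  refine bijective_of_fixed hB hC φ (rho_appLE a b hf hU hsU hU' hsU' le_rfl) ?_ ?_ ?_ ?_
  · intro z hz
    let qB : B →+* B ⧸ J.map φ := Ideal.Quotient.mk _
    have h := hfixX qB (RingHom.ext fun c => by
      refine (Ideal.Quotient.eq.2 ?_).symm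
      rw [← map_sub]
      exact Ideal.mem_map_of_mem φ (hC.sub_p0_mem c))
    have h' := RingHom.congr_fun ((E_eq_iff a hU' hsU' qB (pX qB) rfl).1 h) z
    rw [RingHom.comp_apply, show p0 ρB z = 0 from hz, map_zero] at h'
    exact Ideal.Quotient.eq_zero_iff_mem.1 h'.symm
  · intro z
    obtain ⟨c, hc⟩ := Ideal.Quotient.mk_surjective (ψ z)
    refine ⟨c, ?_⟩
    let s : C ⧸ J →+* C := RingHom.kerLift (p0 ρC)
    have hsψ : (s.comp ψ).comp φ = p0 ρC := by
      rw [RingHom.comp_assoc, hψφ]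
      exact RingHom.ext fun _ => rfl
    let ψ₂ : B →+* B := φ.comp (s.comp ψ)
    have h1 : (p0 ρB).comp φ = ψ₂.comp φ := by
      rw [show ψ₂.comp φ = φ.comp ((s.comp ψ).comp φ) from rfl, hsψ]
      exact RingHom.ext hp0
    have hfx : ((p0 ρB).comp φ).comp (p0 ρC) = (p0 ρB).comp φ := RingHom.ext fun d => by
      simp only [RingHom.comp_apply]
      rw [hp0, hC.p0_p0, hp0]
    let x₁ := pX (p0 ρB)
    have hstr : (Spec.map (CommRingCat.ofHom ψ₂) ≫ hU'.fromSpec) ≫ X.hom =
        (Spec.map (CommRingCat.ofHom (p0 ρB)) ≫ hU'.fromSpec) ≫ X.hom := by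
      rw [← Over.w f, ← Category.assoc, ← Category.assoc, hfs, hfs, h1]
    let x₂ : Over.mk ((Spec.map (CommRingCat.ofHom (p0 ρB)) ≫ hU'.fromSpec) ≫ X.hom) ⟶ X :=
      Over.homMk (Spec.map (CommRingCat.ofHom ψ₂) ≫ hU'.fromSpec) hstr
    have hx : x₁ = x₂ := hF.unique x₁ x₂ ((E_eq_iff b hU hsU _ (x₁ ≫ f) (hfs _)).2 hfx) (by
      apply Over.OverMorphism.ext
      show (_ ≫ _) ≫ f.left = (_ ≫ _) ≫ f.left
      rw [hfs, hfs, h1])
    have := RingHom.congr_fun (ringHom_ext hU' (congrArg CommaMorphism.left hx)) z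
    rw [this]
    show φ (p0 ρC c) = φ (s (ψ z))
    rw [← hc]
    rfl
  · intro c hc
    have h := congrArg ψ hc
    rw [map_zero, show ψ (φ (p0 ρC c)) = q (p0 ρC c) from RingHom.congr_fun hψφ _] at h
    have h' : p0 ρC (p0 ρC c) = 0 := Ideal.Quotient.eq_zero_iff_mem.1 h
    rwa [hC.p0_p0] at h'
  · intro p hp hle
    have hpJ : (p.map q).IsPrime := Ideal.map_isPrime_of_surjective Ideal.Quotient.mk_surjective
      (by rw [Ideal.mk_ker]; exact hle)
    let P : Spec (CommRingCat.of (C ⧸ J)) := (⟨p.map q, hpJ⟩ : PrimeSpectrum (C ⧸ J))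
    have hmem : σ.left P ∈ V := h3 σ hσE P
    have hmem' : σ.left P ∈ f.left ⁻¹ᵁ U := by
      rw [hψ]
      exact fromSpec_mem hU' ψ P
    obtain ⟨g, hgle, hg⟩ := hU'.exists_basicOpen_le (V := V) ⟨σ.left P, hmem⟩ hmem'
    refine ⟨(p.map q).comap ψ, g, hpJ.comap ψ, ?_, ?_, ?_⟩
    · intro hgp
      have hg' : (Spec.map (CommRingCat.ofHom ψ) ≫ hU'.fromSpec) P ∈ X.left.basicOpen g :=
        (congrArg (fun k => k P ∈ X.left.basicOpen g) hψ).mp hg
      exact (mem_basicOpen_iff hU' ψ P g).1 hg' hgp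
    · rw [Ideal.comap_comap, hψφ, Ideal.comap_map_of_surjective q Ideal.Quotient.mk_surjective,
        ← RingHom.ker_eq_comap_bot, Ideal.mk_ker]
      exact sup_eq_left.2 hle
    · let φg := (algebraMap B (Localization.Away g)).comp φ
      let z : Spec (CommRingCat.of (Localization.Away g)) ⟶ X.left :=
        Spec.map (CommRingCat.ofHom (algebraMap B (Localization.Away g))) ≫ hU'.fromSpec
      haveI : IsOpenImmersion z := inferInstance
      have hz : Set.range z ⊆ Set.range V.ι := by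
        rintro _ ⟨t, rfl⟩
        rw [Scheme.Opens.range_ι]
        refine hgle ((mem_basicOpen_iff hU' _ t g).2 fun hmem => ?_)
        exact (PrimeSpectrum.isPrime t).ne_top
          (Ideal.eq_top_of_isUnit_mem _ hmem (IsLocalization.Away.algebraMap_isUnit g))
      have hzV : IsOpenImmersion.lift V.ι z hz ≫ V.ι = z := IsOpenImmersion.lift_fac _ _ _
      haveI : IsOpenImmersion (IsOpenImmersion.lift V.ι z hz ≫ V.ι) := hzV.symm ▸ inferInstance
      haveI : IsOpenImmersion (IsOpenImmersion.lift V.ι z hz) := IsOpenImmersion.of_comp _ V.ι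
      have hflat : Flat (Spec.map (CommRingCat.ofHom φg) ≫ hU.fromSpec) := by
        rw [← hfs, show (Spec.map (CommRingCat.ofHom (algebraMap B (Localization.Away g))) ≫ hU'.fromSpec) ≫
          f.left = IsOpenImmersion.lift V.ι z hz ≫ (V.ι ≫ f.left) from by rw [← Category.assoc, hzV]]
        infer_instance
      have hpb : IsPullback (𝟙 _) (Spec.map (CommRingCat.ofHom φg))
          (Spec.map (CommRingCat.ofHom φg) ≫ hU.fromSpec) hU.fromSpec :=
        IsPullback.of_horiz_isIso_mono ⟨by simp⟩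
      exact (HasRingHomProperty.Spec_iff (P := @Flat)).1
        (MorphismProperty.of_isPullback hpb hflat)

/-- Preimages of stable affine opens are affine. -/
theorem isAffineOpen_preimage (hf : MonAct.IsEquivariant a b f) (hF : FixIso a b f)
    (hX : ∀ x : X.left, ∃ U : X.left.Opens, x ∈ U ∧ IsAffineOpen U ∧ Stable a U)
    {U : Y.left.Opens} (hU : IsAffineOpen U) (hsU : Stable b U) :
    IsAffineOpen (f.left ⁻¹ᵁ U) := by
  let C := Γ(Y.left, U)
  let ρC := rho b hU hsU
  have hC : IsCoact ρC := isCoact b hU hsU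
  let good : Set C := {r | IsAffineOpen (f.left ⁻¹ᵁ Y.left.basicOpen r)}
  suffices H : Ideal.span good = ⊤ by
    refine isAffineOpen_of_isAffineOpen_basicOpen _ ((f.left.app U).hom '' good) ?_ ?_
    · rw [← Ideal.map_span, H, Ideal.map_top]
    · rintro _ ⟨r, hr, rfl⟩
      rw [← Scheme.preimage_basicOpen]
      exact hr
  rw [← hU.iSup_basicOpen_eq_self_iff]
  refine le_antisymm (iSup_le fun r => Y.left.basicOpen_le _) fun u hu => ?_
  -- the lift of the fixed locus of `U`
  let J : Ideal C := RingHom.ker (p0 ρC)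
  let q : C →+* C ⧸ J := Ideal.Quotient.mk J
  have hq : q.comp (p0 ρC) = q := RingHom.ext fun c =>
    (Ideal.Quotient.eq.2 (hC.sub_p0_mem c)).symm
  let str : Spec (CommRingCat.of (C ⧸ J)) ⟶ S := (Spec.map (CommRingCat.ofHom q) ≫ hU.fromSpec) ≫ Y.hom
  let y0 : Over.mk str ⟶ Y := Over.homMk (Spec.map (CommRingCat.ofHom q) ≫ hU.fromSpec) rfl
  have hy0 : E b y0 = y0 := (E_eq_iff b hU hsU q y0 rfl).2 hq
  obtain ⟨σ, hσ⟩ := hF.exist y0 hy0
  -- points over `U` retract through `σ`
  have key : ∀ {K : Type u} [Field K] {strK : Spec (CommRingCat.of K) ⟶ S} (y : Over.mk strK ⟶ Y)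
      (θ : C →+* K), y.left = Spec.map (CommRingCat.ofHom θ) ≫ hU.fromSpec →
      ∃ j : Over.mk strK ⟶ Over.mk str, (∀ x : Over.mk strK ⟶ X, x ≫ f = y → E a x = j ≫ σ) ∧
        (∀ (t : Spec (CommRingCat.of K)) (r : C),
          j.left t ∈ PrimeSpectrum.basicOpen (q r) ↔ θ (p0 ρC r) ≠ 0) ∧ E b y = j ≫ y0 := by
    intro K _ strK y θ hy
    let θ₀ : C ⧸ J →+* K := Ideal.Quotient.lift J (θ.comp (p0 ρC)) fun c hc => by
      rw [RingHom.comp_apply, show p0 ρC c = 0 from hc, map_zero]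
    have hθ₀ : θ₀.comp q = θ.comp (p0 ρC) := RingHom.ext fun _ => rfl
    have hleft : Spec.map (CommRingCat.ofHom θ₀) ≫ Spec.map (CommRingCat.ofHom q) ≫ hU.fromSpec =
        (E b y).left := by
      rw [E_formula b hU hsU θ y hy, ← Spec.map_comp_assoc, ← CommRingCat.ofHom_comp, hθ₀]
    let j : Over.mk strK ⟶ Over.mk str := Over.homMk (Spec.map (CommRingCat.ofHom θ₀)) (by
      refine Eq.trans ?_ (Over.w (E b y))
      rw [← hleft]
      simp [str])
    have hj : E b y = j ≫ y0 := Over.OverMorphism.ext hleft.symm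
    refine ⟨j, fun x hx => ?_, fun t r => ?_, hj⟩
    · refine hF.unique _ _ ?_ ?_
      · rw [E_comp a b hf, E_E]
      · rw [E_comp a b hf, hx, Category.assoc, hσ, hj]
    · show θ₀ (q r) ∉ PrimeSpectrum.asIdeal t ↔ _
      rw [((PrimeSpectrum.asIdeal t).eq_bot_or_top).resolve_right (PrimeSpectrum.isPrime t).ne_top,
        Ideal.mem_bot]
      rfl
  -- the point `u`
  let strU : Spec (Y.left.residueField u) ⟶ S := Y.left.fromSpecResidueField u ≫ Y.hom
  let yu : Over.mk strU ⟶ Y := Over.homMk (Y.left.fromSpecResidueField u) rfl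
  obtain ⟨θu, hθu⟩ := exists_ringHom (R := Y.left.residueField u) hU yu.left fun t => by
    show Y.left.fromSpecResidueField u t ∈ U
    rw [Scheme.fromSpecResidueField_apply]
    exact hu
  obtain ⟨ju, -, hju, hjy⟩ := key (K := Y.left.residueField u) yu θu hθu
  let pu : Spec (Y.left.residueField u) := IsLocalRing.closedPoint _
  have hσmem : f.left (σ.left (ju.left pu)) ∈ U := by
    rw [← Scheme.Hom.comp_apply, ← Over.comp_left, hσ]
    exact fromSpec_mem hU q _
  obtain ⟨W, hW, haW, hsW⟩ := hX (σ.left (ju.left pu))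
  obtain ⟨g, hgle, hg⟩ := haW.exists_basicOpen_le (V := W ⊓ f.left ⁻¹ᵁ U)
    ⟨σ.left (ju.left pu), hW, hσmem⟩ hW
  obtain ⟨_, ⟨rb, rfl⟩, hrP, hr⟩ :=
    PrimeSpectrum.isTopologicalBasis_basic_opens.exists_subset_of_mem_open
      (show ju.left pu ∈ σ.left ⁻¹ᵁ X.left.basicOpen g from hg) (σ.left ⁻¹ᵁ X.left.basicOpen g).2
  obtain ⟨r, rfl⟩ := Ideal.Quotient.mk_surjective rb
  let r0 := p0 ρC r
  let g0 := p0 (rho a haW hsW) g
  have hg0 : X.left.basicOpen g0 ≤ f.left ⁻¹ᵁ U := by
    intro t ht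
    let strT : Spec (X.left.residueField t) ⟶ S := X.left.fromSpecResidueField t ≫ X.hom
    let x : Over.mk strT ⟶ X := Over.homMk (X.left.fromSpecResidueField t) rfl
    let p : Spec (X.left.residueField t) := IsLocalRing.closedPoint _
    have hxp : x.left p = t := X.left.fromSpecResidueField_apply t p
    obtain ⟨θ, hθ⟩ := exists_ringHom (R := X.left.residueField t) haW x.left fun s => by
      show X.left.fromSpecResidueField t s ∈ W
      rw [Scheme.fromSpecResidueField_apply]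
      exact X.left.basicOpen_le _ ht
    rw [← hxp, hθ] at ht
    replace ht := (mem_basicOpen_iff_field (K := X.left.residueField t) haW θ p g0).1 ht
    have hE : (E a x).left p ∈ X.left.basicOpen g := by
      rw [E_formula a haW hsW θ x hθ]
      exact (mem_basicOpen_iff_field (K := X.left.residueField t) haW _ p g).2 ht
    have h1 : (E b (x ≫ f)).left p ∈ U := by
      rw [← E_comp a b hf, Over.comp_left, Scheme.Hom.comp_apply]
      exact (hgle hE).2
    have h2 := hsU.mem_of_E_mem _ h1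
    rwa [Over.comp_left, Scheme.Hom.comp_apply, hxp] at h2
  have hsub : f.left ⁻¹ᵁ Y.left.basicOpen r0 ≤ X.left.basicOpen g0 := by
    intro t ht
    let strT : Spec (X.left.residueField t) ⟶ S := X.left.fromSpecResidueField t ≫ X.hom
    let x : Over.mk strT ⟶ X := Over.homMk (X.left.fromSpecResidueField t) rfl
    let p : Spec (X.left.residueField t) := IsLocalRing.closedPoint _
    have hxp : ∀ s, x.left s = t := fun s => X.left.fromSpecResidueField_apply t s
    obtain ⟨θ, hθ⟩ := exists_ringHom (R := X.left.residueField t) hU (x ≫ f).left fun s => by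
      show f.left (x.left s) ∈ U
      exact (congrArg (fun z => f.left z ∈ U) (hxp s)).mpr (Y.left.basicOpen_le _ ht)
    obtain ⟨j, hj, hjm, -⟩ := key (K := X.left.residueField t) (x ≫ f) θ hθ
    have hr0 : θ r0 ≠ 0 := by
      refine (mem_basicOpen_iff_field (K := X.left.residueField t) hU θ p r0).1 ?_
      rw [← hθ]
      show f.left (x.left p) ∈ Y.left.basicOpen r0
      exact (congrArg (fun z => f.left z ∈ Y.left.basicOpen r0) (hxp p)).mpr ht
    have hE : (E a x).left p ∈ X.left.basicOpen g := by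
      rw [hj x rfl, Over.comp_left, Scheme.Hom.comp_apply]
      exact hr ((hjm p r).2 hr0)
    have htW : t ∈ W := by
      have := hsW.mem_of_E_mem x (t := p) (hgle hE).1
      rwa [hxp] at this
    obtain ⟨θX, hθX⟩ := exists_ringHom (R := X.left.residueField t) haW x.left fun s => by
      exact (congrArg (· ∈ W) (hxp s)).mpr htW
    rw [E_formula a haW hsW θX x hθX] at hE
    rw [← hxp p, hθX]
    exact (mem_basicOpen_iff_field (K := X.left.residueField t) haW _ p g0).2
      ((mem_basicOpen_iff_field (K := X.left.residueField t) haW (θX.comp (p0 (rho a haW hsW))) p g).1 hE)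
  have hgood : r0 ∈ good := by
    show IsAffineOpen (f.left ⁻¹ᵁ Y.left.basicOpen r0)
    have h := (haW.basicOpen g0).basicOpen
      (X.left.presheaf.map (homOfLE hg0).op ((f.left.app U).hom r0))
    rwa [Scheme.basicOpen_res, ← Scheme.preimage_basicOpen, inf_eq_right.2 hsub] at h
  refine TopologicalSpace.Opens.mem_iSup.2 ⟨⟨r0, hgood⟩, ?_⟩
  show u ∈ Y.left.basicOpen r0
  have hup : yu.left pu = u := Y.left.fromSpecResidueField_apply u pu
  rw [← hup, hθu]
  exact (mem_basicOpen_iff_field (K := Y.left.residueField u) hU θu pu r0).2 ((hju pu r).1 hrP)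

end Groth.Agent.H15Magnet.LineIso
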