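import Groth.Agent.H15Magnet.GlobalPt
import Groth.Agent.H15Magnet.LineIso.Algebra
import Mathlib.AlgebraicGeometry.ResidueField

set_option autoImplicit false
set_option linter.unusedVariables false
set_option linter.style.haveILetI false
set_option backward.isDefEq.respectTransparency false
set_option backward.isDefEq.respectTransparency.types false
universe u

open CategoryTheory CategoryTheory.Limits MonoidalCategory CartesianMonoidalCategory MonObj AlgebraicGeometry
  Opposite Polynomial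
open Magnet

noncomputable section

namespace Groth.Agent.H15Magnet.LineIso

variable {S : Scheme.{u}} {R R' : Type u} [CommRing R] [CommRing R']

/-- The character of `ℕ` with value `c` at `1`. -/
def chi (c : R) : Multiplicative ℕ →* R := powersHom R c

theorem chi_apply (c : R) (v : Multiplicative ℕ) : chi c v = c ^ v.toAdd := rfl

theorem chi_mul (c d : R) : chi (c * d) = chi c * chi d :=
  MonoidHom.ext fun v => mul_pow c d _

theorem chi_one : chi (1 : R) = 1 := MonoidHom.ext fun v => one_pow _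

theorem comp_chi (g : R →+* R') (c : R) : g.toMonoidHom.comp (chi c) = chi (g c) :=
  MonoidHom.ext fun v => map_pow g c _

/-- The scalar `c`, as a point of `A¹`. -/
def sc (str : Spec (CommRingCat.of R) ⟶ S) (c : R) : Over.mk str ⟶ AMonS S ℕ := mpt str (chi c)

theorem sc_mul (str : Spec (CommRingCat.of R) ⟶ S) (c d : R) : sc str (c * d) = sc str c * sc str d := by
  rw [sc, chi_mul, mpt_mul]; rfl

theorem lift_sc_one {X : Over S} (a : MonAct (AMonS S ℕ) X) (str : Spec (CommRingCat.of R) ⟶ S)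
    (x : Over.mk str ⟶ X) : lift (sc str (1 : R)) x ≫ a.act = x := by
  rw [sc, chi_one, mpt_one]
  exact (congrArg (fun g => lift g x ≫ a.act) (Hom.one_def (M := AMonS S ℕ)).symm).trans (a.lift_one_act x)

theorem comp_sc {str : Spec (CommRingCat.of R) ⟶ S} {str' : Spec (CommRingCat.of R') ⟶ S} (g : R →+* R')
    (j : Over.mk str' ⟶ Over.mk str) (hj : j.left = Spec.map (CommRingCat.ofHom g)) (c : R) :
    j ≫ sc str c = sc str' (g c) := by
  refine amonS_hom_ext ?_
  rw [sc, sc, mpt_fst, Over.comp_left, Category.assoc, mpt_fst, hj, ← Spec.map_comp, ← CommRingCat.ofHom_comp,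
    comp_charRingHom, comp_chi]

/-- The zero of `A¹`. -/
def o (T : Over S) : T ⟶ AMonS S ℕ := gpt T (chi (0 : Γ(T.left, ⊤)))

theorem comp_o {T T' : Over S} (t : T' ⟶ T) : t ≫ o T = o T' := by
  rw [o, comp_gpt, comp_chi, map_zero, o]

theorem o_eq_sc (str : Spec (CommRingCat.of R) ⟶ S) : o (Over.mk str) = sc str (0 : R) := by
  rw [o, gpt_eq_mpt, sc]
  congr 1
  exact (comp_chi _ _).trans (congrArg chi (map_zero _))

theorem mul_o {T : Over S} (g : T ⟶ AMonS S ℕ) : g * o T = o T := by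
  refine pt_ext fun B _ y j => ?_
  rw [MonObj.comp_mul, comp_o, o_eq_sc, sc]
  obtain ⟨χ, hχ⟩ := mpt_surjective y (j ≫ g)
  rw [← hχ, ← mpt_mul]
  congr 1
  refine MonoidHom.ext fun v => ?_
  rw [MonoidHom.mul_apply, chi_apply]
  rcases Nat.eq_zero_or_pos v.toAdd with h | h
  · rw [h, pow_zero, _root_.mul_one, show v = 1 from Multiplicative.toAdd.injective h, map_one]
  · rw [zero_pow h.ne', mul_zero]

variable {X Y : Over S} (a : MonAct (AMonS S ℕ) X) (b : MonAct (AMonS S ℕ) Y)

/-- The retraction `x ↦ 0 · x` to the fixed locus. -/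
def E {T : Over S} (x : T ⟶ X) : T ⟶ X := lift (o T) x ≫ a.act

theorem comp_E {T T' : Over S} (t : T' ⟶ T) (x : T ⟶ X) : t ≫ E a x = E a (t ≫ x) := by
  rw [E, E, ← Category.assoc, comp_lift, comp_o]

theorem smul_E {T : Over S} (g : T ⟶ AMonS S ℕ) (x : T ⟶ X) : lift g (E a x) ≫ a.act = E a x := by
  rw [E, ← a.lift_mul_act, mul_o]

theorem E_E {T : Over S} (x : T ⟶ X) : E a (E a x) = E a x := smul_E a _ x

theorem E_eq_of_fixed {T : Over S} (x : (MonAct.fixedPsh a).obj (op T)) : E a x.1 = x.1 := by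
  have h := x.2 T (𝟙 T) (o T)
  rwa [Category.id_comp] at h

/-- A point fixed by `0` is fixed. -/
def fix {T : Over S} (x : T ⟶ X) (hx : E a x = x) : (MonAct.fixedPsh a).obj (op T) :=
  ⟨x, fun T' t g => by rw [← hx, comp_E, smul_E]⟩

@[simp] theorem fix_val {T : Over S} (x : T ⟶ X) (hx : E a x = x) : (fix a x hx).1 = x := rfl

theorem E_comp {f : X ⟶ Y} (hf : MonAct.IsEquivariant a b f) {T : Over S} (x : T ⟶ X) :
    E a x ≫ f = E b (x ≫ f) := by
  rw [E, E, Category.assoc]
  exact (MonAct.isEquivariant_iff a b f).1 hf T (o T) x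

/-- Stability of an open subscheme. -/
abbrev Stable (U : X.left.Opens) : Prop := (snd (AMonS S ℕ) X).left ⁻¹ᵁ U ≤ a.act.left ⁻¹ᵁ U

theorem Stable.smul_mem {a : MonAct (AMonS S ℕ) X} {U : X.left.Opens} (hU : Stable a U) {T : Over S}
    (g : T ⟶ AMonS S ℕ) (x : T ⟶ X) {t : T.left} (ht : x.left t ∈ U) :
    (lift g x ≫ a.act).left t ∈ U := by
  rw [Over.comp_left, Scheme.Hom.comp_apply]
  refine hU (show (snd (AMonS S ℕ) X).left ((lift g x).left t) ∈ U from ?_)
  rw [← Scheme.Hom.comp_apply, ← Over.comp_left, lift_snd]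
  exact ht

theorem Stable.E_mem {a : MonAct (AMonS S ℕ) X} {U : X.left.Opens} (hU : Stable a U) {T : Over S}
    (x : T ⟶ X) {t : T.left} (ht : x.left t ∈ U) : (E a x).left t ∈ U :=
  hU.smul_mem (o T) x ht

/-- A stable open containing `0 · x` contains `x`. -/
theorem Stable.mem_of_E_mem_field {a : MonAct (AMonS S ℕ) X} {U : X.left.Opens} (hU : Stable a U)
    {K : Type u} [Field K] {str : Spec (CommRingCat.of K) ⟶ S} (x : Over.mk str ⟶ X)
    (p : Spec (CommRingCat.of K)) (ht : (E a x).left p ∈ U) : x.left p ∈ U := by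
  let s1 : Spec (CommRingCat.of K[X]) ⟶ S := Spec.map (CommRingCat.ofHom C) ≫ str
  let j1 : Over.mk s1 ⟶ Over.mk str := Over.homMk (Spec.map (CommRingCat.ofHom C)) rfl
  let j0 : Over.mk str ⟶ Over.mk s1 := Over.homMk (Spec.map (CommRingCat.ofHom (evalRingHom (0 : K)))) (by
    show Spec.map _ ≫ Spec.map _ ≫ str = str
    rw [← Spec.map_comp_assoc, ← CommRingCat.ofHom_comp,
      show (evalRingHom (0 : K)).comp C = RingHom.id K from RingHom.ext fun _ => eval_C]
    simp)
  let q := lift (sc s1 (Polynomial.X : K[X])) (j1 ≫ x) ≫ a.act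
  have hj : j0 ≫ j1 = 𝟙 _ := by
    apply Over.OverMorphism.ext
    show Spec.map _ ≫ Spec.map _ = 𝟙 _
    rw [← Spec.map_comp, ← CommRingCat.ofHom_comp,
      show (evalRingHom (0 : K)).comp C = RingHom.id K from RingHom.ext fun _ => eval_C]
    simp
  have hq0 : j0 ≫ q = E a x := by
    rw [comp_lift_assoc, comp_sc (evalRingHom (0 : K)) j0 rfl, ← Category.assoc j0, hj, Category.id_comp]
    simp [E, o_eq_sc]
  have hmem : q.left (j0.left p) ∈ U := by
    rw [← Scheme.Hom.comp_apply, ← Over.comp_left, hq0]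
    exact ht
  let L := FractionRing K[X]
  let s2 : Spec (CommRingCat.of L) ⟶ S := Spec.map (CommRingCat.ofHom (algebraMap K[X] L)) ≫ s1
  let j2 : Over.mk s2 ⟶ Over.mk s1 := Over.homMk (Spec.map (CommRingCat.ofHom (algebraMap K[X] L))) rfl
  let pL : Spec (CommRingCat.of L) := (⊥ : PrimeSpectrum L)
  have hgen : (q.left (j2.left pL)) ∈ U := by
    refine Specializes.mem_open (Specializes.map ?_ q.left.continuous) U.2 hmem
    refine (PrimeSpectrum.le_iff_specializes _ _).1 ?_
    intro z hz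
    have : algebraMap K[X] L z = 0 := hz
    rw [IsFractionRing.to_map_eq_zero_iff] at this
    rw [this]
    exact zero_mem _
  let τ : L := algebraMap K[X] L Polynomial.X
  have hτ : τ ≠ 0 := fun h => Polynomial.X_ne_zero (IsFractionRing.to_map_eq_zero_iff.1 h)
  have h2 : j2 ≫ q = lift (sc s2 τ) (j2 ≫ j1 ≫ x) ≫ a.act := by
    rw [comp_lift_assoc, comp_sc (algebraMap K[X] L) j2 rfl]
  have h3 := hU.smul_mem (sc s2 τ⁻¹) (lift (sc s2 τ) (j2 ≫ j1 ≫ x) ≫ a.act) (t := pL) (by
    rw [← h2, Over.comp_left, Scheme.Hom.comp_apply]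
    exact hgen)
  rw [← a.lift_mul_act, ← sc_mul, inv_mul_cancel₀ hτ, lift_sc_one, Over.comp_left,
    Over.comp_left, Scheme.Hom.comp_apply, Scheme.Hom.comp_apply] at h3
  have hp : j1.left (j2.left pL) = p := Subsingleton.elim (α := PrimeSpectrum K) _ _
  rwa [hp] at h3

theorem Stable.mem_of_E_mem {a : MonAct (AMonS S ℕ) X} {U : X.left.Opens} (hU : Stable a U) {T : Over S}
    (x : T ⟶ X) {t : T.left} (ht : (E a x).left t ∈ U) : x.left t ∈ U := by
  let j : Over.mk (T.left.fromSpecResidueField t ≫ T.hom) ⟶ T := Over.homMk (T.left.fromSpecResidueField t) rfl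
  let p : Spec (T.left.residueField t) := IsLocalRing.closedPoint _
  have hp : j.left p = t := T.left.fromSpecResidueField_apply t p
  have := hU.mem_of_E_mem_field (K := T.left.residueField t) (j ≫ x) p (by
    rw [← comp_E, Over.comp_left, Scheme.Hom.comp_apply, hp]
    exact ht)
  rwa [Over.comp_left, Scheme.Hom.comp_apply, hp] at this

variable {U : X.left.Opens}

/-- Points in an affine open are ring maps. -/
theorem exists_ringHom (hU : IsAffineOpen U) (z : Spec (CommRingCat.of R) ⟶ X.left)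
    (hz : ∀ t, z t ∈ U) : ∃ φ : Γ(X.left, U) →+* R, z = Spec.map (CommRingCat.ofHom φ) ≫ hU.fromSpec := by
  obtain ⟨φ, hφ⟩ := Spec.map_surjective (IsOpenImmersion.lift hU.fromSpec z (by
    rw [hU.range_fromSpec]
    rintro _ ⟨t, rfl⟩
    exact hz t))
  exact ⟨φ.hom, by rw [CommRingCat.ofHom_hom, hφ, IsOpenImmersion.lift_fac]⟩

theorem ringHom_ext (hU : IsAffineOpen U) {φ ψ : Γ(X.left, U) →+* R}
    (h : Spec.map (CommRingCat.ofHom φ) ≫ hU.fromSpec = Spec.map (CommRingCat.ofHom ψ) ≫ hU.fromSpec) :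
    φ = ψ := by
  rw [cancel_mono] at h
  exact congrArg CommRingCat.Hom.hom (Spec.map_injective h)

theorem fromSpec_mem (hU : IsAffineOpen U) (φ : Γ(X.left, U) →+* R) (t : Spec (CommRingCat.of R)) :
    (Spec.map (CommRingCat.ofHom φ) ≫ hU.fromSpec) t ∈ U := by
  rw [Scheme.Hom.comp_apply, ← SetLike.mem_coe, ← hU.range_fromSpec]
  exact Set.mem_range_self _

/-- `ρ` describes the action on the stable affine open `U`. -/
def IsFormula (hU : IsAffineOpen U) (ρ : Γ(X.left, U) →+* Γ(X.left, U)[X]) : Prop :=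
  ∀ (R : Type u) [CommRing R] (str : Spec (CommRingCat.of R) ⟶ S) (c : R) (φ : Γ(X.left, U) →+* R)
    (x : Over.mk str ⟶ X), x.left = Spec.map (CommRingCat.ofHom φ) ≫ hU.fromSpec →
      (lift (sc str c) x ≫ a.act).left =
        Spec.map (CommRingCat.ofHom ((eval₂RingHom φ c).comp ρ)) ≫ hU.fromSpec

theorem exists_formula (hU : IsAffineOpen U) (hst : Stable a U) :
    ∃ ρ, IsFormula a hU ρ := by
  let B := Γ(X.left, U)
  let s1 : Spec (CommRingCat.of B[X]) ⟶ S := (Spec.map (CommRingCat.ofHom C) ≫ hU.fromSpec) ≫ X.hom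
  let x1 : Over.mk s1 ⟶ X := Over.homMk (Spec.map (CommRingCat.ofHom C) ≫ hU.fromSpec) rfl
  obtain ⟨ρ, hρ⟩ := exists_ringHom hU (lift (sc s1 (Polynomial.X : B[X])) x1 ≫ a.act).left fun t =>
    hst.smul_mem _ x1 (fromSpec_mem hU _ t)
  refine ⟨ρ, fun R _ str c φ x hx => ?_⟩
  let g := eval₂RingHom φ c
  have hg : g.comp C = φ := RingHom.ext fun _ => eval₂_C _ _
  have hw : Spec.map (CommRingCat.ofHom g) ≫ s1 = str := by
    refine Eq.trans ?_ (Over.w x)
    rw [hx]
    simp only [s1, ← Category.assoc, ← Spec.map_comp, ← CommRingCat.ofHom_comp, hg]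
  let j : Over.mk str ⟶ Over.mk s1 := Over.homMk (Spec.map (CommRingCat.ofHom g)) hw
  have hjx : j ≫ x1 = x := by
    apply Over.OverMorphism.ext
    show Spec.map _ ≫ Spec.map _ ≫ hU.fromSpec = _
    rw [hx, ← Spec.map_comp_assoc, ← CommRingCat.ofHom_comp, hg]
  have h : lift (sc str c) x ≫ a.act = j ≫ lift (sc s1 (Polynomial.X : B[X])) x1 ≫ a.act := by
    rw [comp_lift_assoc, hjx, comp_sc g j rfl]
    simp [g]
  rw [h, Over.comp_left, hρ]
  show Spec.map _ ≫ Spec.map _ ≫ _ = _
  rw [← Spec.map_comp_assoc, ← CommRingCat.ofHom_comp]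

/-- The coaction of a stable affine open. -/
def rho (hU : IsAffineOpen U) (hst : Stable a U) : Γ(X.left, U) →+* Γ(X.left, U)[X] :=
  (exists_formula a hU hst).choose

theorem rho_formula (hU : IsAffineOpen U) (hst : Stable a U) : IsFormula a hU (rho a hU hst) :=
  (exists_formula a hU hst).choose_spec

theorem isCoact (hU : IsAffineOpen U) (hst : Stable a U) : IsCoact (rho a hU hst) := by
  let B := Γ(X.left, U)
  let ρ := rho a hU hst
  refine ⟨fun z => ?_, fun z n => ?_⟩
  · let str : Spec (CommRingCat.of B) ⟶ S :=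
      (Spec.map (CommRingCat.ofHom (RingHom.id B)) ≫ hU.fromSpec) ≫ X.hom
    let x : Over.mk str ⟶ X := Over.homMk (Spec.map (CommRingCat.ofHom (RingHom.id B)) ≫ hU.fromSpec) rfl
    have h := rho_formula a hU hst B str 1 (RingHom.id B) x rfl
    rw [lift_sc_one] at h
    exact (RingHom.congr_fun (ringHom_ext hU h) z).symm
  · let CC : B →+* B[X][X] := C.comp C
    let str : Spec (CommRingCat.of B[X][X]) ⟶ S := (Spec.map (CommRingCat.ofHom CC) ≫ hU.fromSpec) ≫ X.hom
    let x : Over.mk str ⟶ X := Over.homMk (Spec.map (CommRingCat.ofHom CC) ≫ hU.fromSpec) rfl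
    let c : B[X][X] := C Polynomial.X
    let d : B[X][X] := Polynomial.X
    have h := rho_formula a hU hst _ str (c * d) CC x rfl
    rw [sc_mul, a.lift_mul_act] at h
    have h' := rho_formula a hU hst _ str c _ (lift (sc str d) x ≫ a.act)
      (rho_formula a hU hst _ str d CC x rfl)
    have key : eval₂ ((eval₂RingHom CC d).comp ρ) c (ρ z) = eval₂ CC (c * d) (ρ z) :=
      RingHom.congr_fun (ringHom_ext hU (h'.symm.trans h)) z
    refine Polynomial.ext fun m => ?_
    rw [coeff_monomial]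
    have hc : ∀ (w : B) (k : ℕ), CC w * (c * d) ^ k = C (monomial k w) * Polynomial.X ^ k := fun w k => by
      simp only [CC, c, d, RingHom.comp_apply, ← C_mul_X_pow_eq_monomial, mul_pow, map_mul, map_pow]
      ring
    have hL : ((eval₂ CC (c * d) (ρ z)).coeff m).coeff n = if n = m then (ρ z).coeff n else 0 := by
      rw [eval₂_eq_sum, Polynomial.sum, finsetSum_coeff, finsetSum_coeff, Finset.sum_eq_single n]
      · rw [hc, coeff_C_mul_X_pow]
        by_cases h : n = m
        · subst h; simp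
        · rw [if_neg (Ne.symm h), if_neg h, coeff_zero]
      · intro k _ hk
        rw [hc, coeff_C_mul_X_pow]
        split_ifs with h
        · rw [coeff_monomial, if_neg hk]
        · rw [coeff_zero]
      · intro hn
        simp [notMem_support_iff.1 hn]
    have hf : ∀ (w : B) (k : ℕ), ((((eval₂RingHom CC d).comp ρ) w * c ^ k).coeff m).coeff n =
        if n = k then (ρ w).coeff m else 0 := fun w k => by
      have hev : ((eval₂RingHom CC d).comp ρ) w = (ρ w).map (C : B →+* B[X]) := rfl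
      rw [hev, show c ^ k = C (Polynomial.X ^ k) from (map_pow C _ k).symm, coeff_mul_C, coeff_map,
        coeff_C_mul_X_pow]
    have hR : ((eval₂ ((eval₂RingHom CC d).comp ρ) c (ρ z)).coeff m).coeff n = (ρ ((ρ z).coeff n)).coeff m := by
      rw [eval₂_eq_sum, Polynomial.sum, finsetSum_coeff, finsetSum_coeff, Finset.sum_eq_single n]
      · rw [hf, if_pos rfl]
      · intro k _ hk
        rw [hf, if_neg (Ne.symm hk)]
      · intro hn
        simp [notMem_support_iff.1 hn]
    rw [key, hL] at hR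
    exact hR.symm

/-- The retraction on rings. -/
theorem E_formula (hU : IsAffineOpen U) (hst : Stable a U) {str : Spec (CommRingCat.of R) ⟶ S}
    (φ : Γ(X.left, U) →+* R) (x : Over.mk str ⟶ X)
    (hx : x.left = Spec.map (CommRingCat.ofHom φ) ≫ hU.fromSpec) :
    (E a x).left = Spec.map (CommRingCat.ofHom (φ.comp (p0 (rho a hU hst)))) ≫ hU.fromSpec := by
  rw [E, o_eq_sc, rho_formula a hU hst R str 0 φ x hx]
  congr 3
  refine RingHom.ext fun z => ?_
  simp [eval₂_at_zero]

theorem E_eq_iff (hU : IsAffineOpen U) (hst : Stable a U) {str : Spec (CommRingCat.of R) ⟶ S}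
    (φ : Γ(X.left, U) →+* R) (x : Over.mk str ⟶ X)
    (hx : x.left = Spec.map (CommRingCat.ofHom φ) ≫ hU.fromSpec) :
    E a x = x ↔ φ.comp (p0 (rho a hU hst)) = φ := by
  refine ⟨fun h => ringHom_ext hU (by rw [← E_formula a hU hst φ x hx, h, hx]), fun h => ?_⟩
  apply Over.OverMorphism.ext
  rw [E_formula a hU hst φ x hx, h, hx]

/-- Equivariant maps respect the coactions. -/
theorem rho_appLE {f : X ⟶ Y} (hf : MonAct.IsEquivariant a b f) {V : Y.left.Opens} (hV : IsAffineOpen V)
    (hsV : Stable b V) (hU : IsAffineOpen U) (hsU : Stable a U) (hle : U ≤ f.left ⁻¹ᵁ V)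
    (z : Γ(Y.left, V)) :
    rho a hU hsU ((f.left.appLE V U hle).hom z) = (rho b hV hsV z).map (f.left.appLE V U hle).hom := by
  let B := Γ(X.left, U)
  let φ : Γ(Y.left, V) →+* B := (f.left.appLE V U hle).hom
  let str : Spec (CommRingCat.of B[X]) ⟶ S := (Spec.map (CommRingCat.ofHom C) ≫ hU.fromSpec) ≫ X.hom
  let x : Over.mk str ⟶ X := Over.homMk (Spec.map (CommRingCat.ofHom C) ≫ hU.fromSpec) rfl
  have hfs : ∀ {R : Type u} [CommRing R] (ψ : B →+* R),
      (Spec.map (CommRingCat.ofHom ψ) ≫ hU.fromSpec) ≫ f.left =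
        Spec.map (CommRingCat.ofHom (ψ.comp φ)) ≫ hV.fromSpec := fun ψ => by
    rw [Category.assoc, ← IsAffineOpen.SpecMap_appLE_fromSpec f.left hV hU hle, ← Spec.map_comp_assoc]
    rfl
  have hxf : (x ≫ f).left = Spec.map (CommRingCat.ofHom ((C : B →+* B[X]).comp φ)) ≫ hV.fromSpec := hfs C
  have h1 := rho_formula b hV hsV B[X] str Polynomial.X _ (x ≫ f) hxf
  rw [← (MonAct.isEquivariant_iff a b f).1 hf, ← Category.assoc, Over.comp_left,
    rho_formula a hU hsU B[X] str Polynomial.X C x rfl, hfs] at h1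
  have h2 := RingHom.congr_fun (ringHom_ext hV h1) z
  simp only [RingHom.comp_apply, coe_eval₂RingHom, eval₂_C_X] at h2
  exact h2

end Groth.Agent.H15Magnet.LineIso
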